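import Cfsg.Agent.Lib.Solv.AutQuot
import Cfsg.Agent.Lib.Frob.FPF

/-!
Frobenius groups `F H` of automorphisms with fixed-point-free kernel (Khukhro, Makarenko,
Shumyatsky): fixed points of `F` and of `H` in quotients by invariant abelian `p`-subgroups.
-/

set_option autoImplicit false

namespace CfsgLib.KMS

open Subgroup CfsgLib.Coprime CfsgLib.Solv Cfsg

universe u v

variable {G : Type u} {A : Type v} [Group G] [Group A]

/-- The fixed points of the subgroup `B` of the acting group. -/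
def fix (φ : A →* MulAut G) (B : Subgroup A) : Subgroup G := autFix (φ.comp B.subtype)

theorem mem_fix {φ : A →* MulAut G} {B : Subgroup A} {g : G} :
    g ∈ fix φ B ↔ ∀ a ∈ B, φ a g = g :=
  ⟨fun h a ha => h ⟨a, ha⟩, fun h a => h a a.2⟩

theorem autInv_fix (φ : A →* MulAut G) (B : Subgroup A) [hB : B.Normal] : AutInv φ (fix φ B) := by
  intro a x hx
  rw [mem_fix] at hx ⊢
  intro b hb
  have := hx (a⁻¹ * b * a) (by simpa using hB.conj_mem b hb a⁻¹)
  rw [← MulAut.mul_apply, ← map_mul, show b * a = a * (a⁻¹ * b * a) by group, map_mul,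
    MulAut.mul_apply, this]

theorem fix_eq_bot_iff {φ : A →* MulAut G} {B : Subgroup A} :
    fix φ B = ⊥ ↔ ∀ g, (∀ a ∈ B, φ a g = g) → g = 1 := by
  rw [eq_bot_iff]
  exact ⟨fun h g hg => h (mem_fix.2 hg), fun h g hg => h g (mem_fix.1 hg)⟩

theorem fix_sub_eq_bot {φ : A →* MulAut G} {B : Subgroup A} (h : fix φ B = ⊥) {K : Subgroup G}
    (hK : AutInv φ K) : fix (subAut φ K hK) B = ⊥ := by
  rw [fix_eq_bot_iff] at h ⊢
  intro g hg
  exact Subtype.ext (h g fun a ha => congrArg Subtype.val (hg a ha))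

theorem nilpotent_fix_sub {φ : A →* MulAut G} {B : Subgroup A}
    (h : Group.IsNilpotent (fix φ B)) {K : Subgroup G}
    (hK : AutInv φ K) : Group.IsNilpotent (fix (subAut φ K hK) B) := by
  let f : fix (subAut φ K hK) B →* fix φ B :=
    (K.subtype.comp (fix (subAut φ K hK) B).subtype).codRestrict _ fun x =>
      mem_fix.2 fun a ha => congrArg Subtype.val (mem_fix.1 x.2 a ha)
  have hf : Function.Injective f := fun x y e =>
    Subtype.ext (Subtype.ext (congrArg (fun z : fix φ B => (z : G)) e))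
  exact Group.nilpotent_of_mulEquiv (MonoidHom.ofInjective hf).symm

theorem card_modEq_fix [Finite G] (φ : A →* MulAut G) {r : ℕ} [Fact r.Prime] {P : Subgroup A}
    (hP : IsPGroup r P) : Nat.card G ≡ Nat.card (fix φ P) [MOD r] := by
  let _ : MulAction P G := MulAction.compHom G (φ.comp P.subtype)
  exact hP.card_modEq_card_fixedPoints G

/-- Splitting of a nilpotent normal subgroup into its `r`-part and its `r'`-part. -/
theorem exists_split [Finite A] (E : Subgroup A) [E.Normal] (hE : Group.IsNilpotent E) {r : ℕ}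
    (hr : r.Prime) : ∃ E₁ E₂ : Subgroup A, E₁.Normal ∧ E₂.Normal ∧ E₁ ≤ E ∧ E₂ ≤ E ∧
      IsPGroup r E₁ ∧ (Nat.card E₂).Coprime r ∧ ∀ e ∈ E, ∃ x ∈ E₁, ∃ y ∈ E₂, e = x * y := by
  have := Core.pCore_characteristic r E
  have := Core.pPrimeCore_characteristic r E
  refine ⟨(pCore r E).map E.subtype, (pPrimeCore r E).map E.subtype, inferInstance, inferInstance,
    map_subtype_le _, map_subtype_le _, (Core.isPGroup_pCore r E).map _, ?_, fun e he => ?_⟩
  · rw [card_map_of_injective E.subtype_injective]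
    exact Core.coprime_card_pPrimeCore r E
  · have h : (⟨e, he⟩ : E) ∈ pCore r E ⊔ pPrimeCore r E := by
      rw [Core.pCore_sup_pPrimeCore_of_isNilpotent hr]; trivial
    rw [← SetLike.mem_coe, normal_mul] at h
    obtain ⟨x, hx, y, hy, e⟩ := h
    exact ⟨x, mem_map_of_mem _ hx, y, mem_map_of_mem _ hy, (congrArg Subtype.val e).symm⟩

theorem not_dvd_card_fix [Finite G] {φ : A →* MulAut G} {r : ℕ} (hr : r.Prime)
    {E E₁ E₂ : Subgroup A} [E₂.Normal] (h1 : IsPGroup r E₁)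
    (hs : ∀ e ∈ E, ∃ x ∈ E₁, ∃ y ∈ E₂, e = x * y) (hE : fix φ E = ⊥) :
    ¬ r ∣ Nat.card (fix φ E₂) := by
  have := Fact.mk hr
  have h := card_modEq_fix (subAut φ _ (autInv_fix φ E₂)) h1
  have hb : fix (subAut φ _ (autInv_fix φ E₂)) E₁ = ⊥ := by
    rw [fix_eq_bot_iff] at hE ⊢
    intro g hg
    refine Subtype.ext (hE g fun e he => ?_)
    obtain ⟨x, hx, y, hy, rfl⟩ := hs e he
    rw [map_mul, MulAut.mul_apply, mem_fix.1 g.2 y hy]
    exact congrArg Subtype.val (hg x hx)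
  rw [hb, card_bot] at h
  intro hd
  exact hr.one_lt.ne' (Nat.dvd_one.1 ((h.dvd_iff dvd_rfl).1 hd))

theorem fix_eq_bot_of_pgroup [Finite G] {φ : A →* MulAut G} {r : ℕ} (hr : r.Prime)
    (hG : IsPGroup r G) {E E₁ E₂ : Subgroup A} [E₂.Normal] (h1 : IsPGroup r E₁)
    (hs : ∀ e ∈ E, ∃ x ∈ E₁, ∃ y ∈ E₂, e = x * y) (hE : fix φ E = ⊥) : fix φ E₂ = ⊥ := by
  have := Fact.mk hr
  exact card_eq_one.1 ((hG.to_subgroup _).card_eq_or_dvd.resolve_right
    (not_dvd_card_fix hr h1 hs hE))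

/-- A nilpotent group acting without fixed points has no fixed points modulo a `p`-subgroup. -/
theorem fix_quot_eq_bot [Finite G] [Finite A] {φ : A →* MulAut G} {F : Subgroup A} [F.Normal]
    (hF : Group.IsNilpotent F) (h : fix φ F = ⊥) {N : Subgroup G} [N.Normal] (hN : AutInv φ N)
    {p : ℕ} (hp : p.Prime) (hNp : IsPGroup p N) : fix (quotAut φ N hN) F = ⊥ := by
  have := Fact.mk hp
  obtain ⟨E₁, E₂, -, _, -, h2, h3, h4, hs⟩ := exists_split F hF hp
  have hb := fix_eq_bot_of_pgroup hp hNp h3 hs (fix_sub_eq_bot h hN)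
  rw [fix_eq_bot_iff] at hb h ⊢
  intro y hy
  obtain ⟨g, rfl⟩ := QuotientGroup.mk_surjective y
  have hy' : ∀ a ∈ F, g⁻¹ * φ a g ∈ N := fun a ha => QuotientGroup.eq.1 (hy a ha).symm
  obtain ⟨u, hu, hgu⟩ := aut_exists_mul_mem_autFix (φ := φ.comp E₂.subtype) (U := N)
    (fun a => hN a) (coprime_card_of_isPGroup hNp h4) (Or.inr (isSolvable_of_isPGroup hNp)) g
    (fun a => hy' a (h2 a.2))
  have hgu' : g * u ∈ fix φ E₂ := hgu
  have key : g * u = 1 := by
    refine h _ fun a ha => ?_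
    have hm : (g * u)⁻¹ * φ a (g * u) ∈ N := by
      rw [map_mul, show (g * u)⁻¹ * (φ a g * φ a u) = u⁻¹ * (g⁻¹ * φ a g) * φ a u by group]
      exact N.mul_mem (N.mul_mem (N.inv_mem hu) (hy' a ha)) (hN a u hu)
    have hf : (g * u)⁻¹ * φ a (g * u) ∈ fix φ E₂ :=
      mul_mem (inv_mem hgu') (autInv_fix φ E₂ a _ hgu')
    have := hb ⟨_, hm⟩ fun b hb' => Subtype.ext (mem_fix.1 hf b hb')
    exact (inv_mul_eq_one.1 (congrArg Subtype.val this)).symm
  rw [QuotientGroup.eq_one_iff, eq_inv_of_mul_eq_one_left key]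
  exact N.inv_mem hu

section Comm

variable {V : Type u} [CommGroup V]

theorem prod_mem_fix (ψ : A →* MulAut V) (F : Subgroup A) [Fintype F] (v : V) :
    ∏ f : F, ψ f v ∈ fix ψ F := by
  rw [mem_fix]
  intro a ha
  rw [map_prod]
  refine Fintype.prod_equiv (Equiv.mulLeft (⟨a, ha⟩ : F)) _ _ fun f => ?_
  simp

theorem prod_eq_one_of_fix {ψ : A →* MulAut V} {F : Subgroup A} [Fintype F] (h : fix ψ F = ⊥)
    (v : V) : ∏ f : F, ψ f v = 1 := by
  have := prod_mem_fix ψ F v
  rwa [h, mem_bot] at this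

/-- Higman's criterion: the identity is a relative trace from `1` to the complement `H`. -/
theorem exists_trace [Finite A] {ψ : A →* MulAut V} {F H : Subgroup A} [Fintype H]
    (hHF : H ≤ normalizer (F : Set A)) (hfpf : ∀ h ∈ H, h ≠ 1 → F ⊓ centralizer {h} = ⊥)
    (h : fix ψ F = ⊥) : ∃ θ : V →* V, ∀ v, ∏ k : H, ψ k (θ (ψ (k : A)⁻¹ v)) = v := by
  classical
  have := Fintype.ofFinite F
  let X := {f : F // f ≠ 1}
  let _ : MulAction H X :=
    { smul := fun k x => ⟨⟨k * x.1 * (k : A)⁻¹, conj_mem_of_le_normalizer hHF k.2 x.1.2⟩,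
        fun e => x.2 (Subtype.ext (by simpa using congrArg Subtype.val e))⟩
      one_smul := fun x => Subtype.ext (Subtype.ext (by
        change ((1 : H) : A) * x.1 * ((1 : H) : A)⁻¹ = x.1
        simp))
      mul_smul := fun k l x => Subtype.ext (Subtype.ext (by
        change ((k * l : H) : A) * x.1 * ((k * l : H) : A)⁻¹ =
          k * (l * x.1 * (l : A)⁻¹) * (k : A)⁻¹
        simp [mul_assoc])) }
  have hsm : ∀ (k : H) (x : X), (((k • x : X) : F) : A) = k * x.1 * (k : A)⁻¹ := fun _ _ => rfl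
  let Ω := MulAction.orbitRel.Quotient H X
  have := Fintype.ofFinite Ω
  let β : H × Ω → X := fun y => y.1 • Quotient.out y.2
  have hβ : Function.Bijective β := by
    constructor
    · rintro ⟨k, ω⟩ ⟨l, ω'⟩ e
      have e1 : k • Quotient.out ω = l • Quotient.out ω' := e
      have e2 : ω = ω' := by
        rw [← Quotient.out_eq ω, ← Quotient.out_eq ω']
        exact Quotient.sound ⟨k⁻¹ * l, by
          change (k⁻¹ * l) • _ = _
          rw [mul_smul, ← e1, inv_smul_smul]⟩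
      subst e2
      have e3 : (l⁻¹ * k) • Quotient.out ω = Quotient.out ω := by
        rw [mul_smul, e1, inv_smul_smul]
      have e4 := congrArg (fun x : X => ((x : F) : A)) e3
      simp only [hsm] at e4
      by_contra hne
      have hne' : ((l⁻¹ * k : H) : A) ≠ 1 := fun e5 => hne (by
        have : l⁻¹ * k = 1 := Subtype.ext e5
        rw [inv_mul_eq_one.1 this])
      exact (Quotient.out ω).2 (Subtype.ext (Frob.eq_one_of_fpf (hfpf _ (l⁻¹ * k).2 hne')
        (Quotient.out ω).1.2 (mul_inv_eq_iff_eq_mul.1 e4).symm))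
    · intro x
      obtain ⟨k, hk⟩ : x ∈ MulAction.orbit H (Quotient.out (Quotient.mk _ x : Ω)) :=
        (MulAction.orbitRel H X).symm (Quotient.mk_out x)
      exact ⟨⟨k, _⟩, hk⟩
  let θ : V →* V :=
    { toFun := fun v => (∏ ω : Ω, ψ ((Quotient.out ω : X) : F) v)⁻¹
      map_one' := by simp
      map_mul' := fun v w => by simp [Finset.prod_mul_distrib, mul_comm] }
  refine ⟨θ, fun v => ?_⟩
  have h1 := prod_eq_one_of_fix h v
  rw [← Finset.mul_prod_erase _ _ (Finset.mem_univ (1 : F)),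
    Finset.prod_subtype (p := fun f : F => f ≠ 1) (F := inferInstance) _ (by simp),
    ← hβ.prod_comp, Fintype.prod_prod_type] at h1
  change ∏ k : H, ψ k (∏ ω : Ω, ψ ((Quotient.out ω : X) : F) (ψ (k : A)⁻¹ v))⁻¹ = v
  simp only [map_inv (ψ _), map_prod, Finset.prod_inv_distrib]
  rw [inv_eq_iff_mul_eq_one, mul_comm]
  simpa only [β, hsm, map_mul, MulAut.mul_apply, OneMemClass.coe_one, map_one,
    MulAut.one_apply] using h1

/-- `H¹(H, V) = 0`. -/
theorem exists_cobound [Finite A] {ψ : A →* MulAut V} {F H : Subgroup A}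
    (hHF : H ≤ normalizer (F : Set A)) (hfpf : ∀ h ∈ H, h ≠ 1 → F ⊓ centralizer {h} = ⊥)
    (h : fix ψ F = ⊥) (c : H → V) (hc : ∀ k l : H, c (k * l) = c k * ψ k (c l)) :
    ∃ m : V, ∀ k : H, c k * ψ k m = m := by
  have := Fintype.ofFinite H
  obtain ⟨θ, hθ⟩ := exists_trace hHF hfpf h
  refine ⟨∏ l : H, ψ l (θ (ψ (l : A)⁻¹ (c l))), fun k => ?_⟩
  conv_lhs => rw [← hθ (c k), ← Equiv.prod_comp (Equiv.mulLeft k)]
  conv_rhs => rw [← Equiv.prod_comp (Equiv.mulLeft k)]
  rw [map_prod, ← Finset.prod_mul_distrib]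
  refine Finset.prod_congr rfl fun l _ => ?_
  simp only [Equiv.coe_mulLeft, hc, coe_mul, map_mul, MulAut.mul_apply, mul_inv_rev, map_inv,
    MulAut.inv_apply_self]

end Comm

open scoped IsMulCommutative in
/-- Fixed points of `H` modulo an abelian invariant normal subgroup are covered. -/
theorem exists_fix_lift [Finite A] {φ : A →* MulAut G} {F H : Subgroup A}
    (hHF : H ≤ normalizer (F : Set A)) (hfpf : ∀ h ∈ H, h ≠ 1 → F ⊓ centralizer {h} = ⊥)
    (h : fix φ F = ⊥) {N : Subgroup G} [N.Normal] [IsMulCommutative N] (hN : AutInv φ N)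
    {y : G ⧸ N} (hy : y ∈ fix (quotAut φ N hN) H) : ∃ g ∈ fix φ H, (g : G ⧸ N) = y := by
  obtain ⟨g, rfl⟩ := QuotientGroup.mk_surjective y
  have hy' : ∀ a ∈ H, g⁻¹ * φ a g ∈ N := fun a ha => QuotientGroup.eq.1 (mem_fix.1 hy a ha).symm
  obtain ⟨m, hm⟩ := exists_cobound (ψ := subAut φ N hN) hHF hfpf (fix_sub_eq_bot h hN)
    (fun k => ⟨_, hy' k k.2⟩) (fun k l => Subtype.ext (by simp [mul_assoc]))
  refine ⟨g * m, mem_fix.2 fun a ha => ?_, by simp⟩
  have : g⁻¹ * φ a g * φ a m = m := congrArg Subtype.val (hm ⟨a, ha⟩)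
  rw [map_mul]
  conv_rhs => rw [← this]
  group

theorem nilpotent_fix_quot [Finite A] {φ : A →* MulAut G} {F H : Subgroup A}
    (hHF : H ≤ normalizer (F : Set A)) (hfpf : ∀ h ∈ H, h ≠ 1 → F ⊓ centralizer {h} = ⊥)
    (h : fix φ F = ⊥) {N : Subgroup G} [N.Normal] [IsMulCommutative N] (hN : AutInv φ N)
    (hn : Group.IsNilpotent (fix φ H)) : Group.IsNilpotent (fix (quotAut φ N hN) H) := by
  let f : fix φ H →* fix (quotAut φ N hN) H :=
    ((QuotientGroup.mk' N).comp (fix φ H).subtype).codRestrict _ fun x =>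
      mem_fix.2 fun a ha => by
        change ((φ a x : G) : G ⧸ N) = ((x : G) : G ⧸ N)
        rw [mem_fix.1 x.2 a ha]
  refine Group.nilpotent_of_surjective f fun y => ?_
  obtain ⟨g, hg, e⟩ := exists_fix_lift hHF hfpf h hN y.2
  exact ⟨⟨g, hg⟩, Subtype.ext e⟩

end CfsgLib.KMS
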