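import Cfsg.Agent.Lib.KMS.Cover
import Cfsg.Agent.Lib.Coprime.Generation

/-!
The core of the Khukhro-Makarenko-Shumyatsky nilpotency theorem: an invariant elementary abelian
`q`-group `Z` acting on an abelian `q'`-group `V` acts trivially if `C_Z(H)` centralises `C_V(H)`.
-/

set_option autoImplicit false

namespace CfsgLib.KMS

open Subgroup CfsgLib.Coprime CfsgLib.Solv Cfsg
open scoped Pointwise

universe u v w

variable {A : Type v} [Group A]

theorem mem_of_pow_mem_of_coprime {G : Type u} [Group G] {S : Subgroup G} {c : G} {m n : ℕ}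
    (h : m.Coprime n) (h1 : c ^ m ∈ S) (h2 : c ^ n ∈ S) : c ∈ S := by
  have e : c = (c ^ m) ^ (Nat.gcdA m n) * (c ^ n) ^ (Nat.gcdB m n) := by
    rw [← zpow_natCast, ← zpow_natCast, ← zpow_mul, ← zpow_mul, ← zpow_add,
      ← Nat.gcd_eq_gcd_ab, h.gcd_eq_one]
    simp
  rw [e]
  exact S.mul_mem (S.zpow_mem h1 _) (S.zpow_mem h2 _)

theorem smul_eq_of_fixed [Finite A] {X : Type w} [MulAction A X] {E : Subgroup A} {h : A}
    (hE : h ∈ normalizer (E : Set A)) (hf : E ⊓ centralizer {h} = ⊥) {y : X} {e : A} (he : e ∈ E)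
    (h1 : h • y = y) (h2 : h • e • y = e • y) : e • y = y := by
  have hs : h ∈ normalizer ((MulAction.stabilizer A y : Subgroup A) : Set A) := le_normalizer h1
  have : e ∈ E ⊓ MulAction.stabilizer A y := by
    refine Frob.mem_of_fpf_of_inv_mul_conj_mem inf_le_left
      (inf_normalizer_le_normalizer_inf ⟨hE, hs⟩) hf he
      ⟨E.mul_mem (E.inv_mem he) ((mem_normalizer_iff.1 hE e).1 he), ?_⟩
    change (e⁻¹ * (h * e * h⁻¹)) • y = y
    have h3 : h⁻¹ • y = y := by rw [inv_smul_eq_iff, h1]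
    rw [mul_smul, mul_smul, mul_smul, h3, h2, inv_smul_smul]
  exact this.2

/-- In an orbit of the Frobenius kernel at most one point has a nontrivial stabiliser in `H`. -/
theorem smul_eq_of_two_fixed [Finite A] {X : Type w} [MulAction A X] {E H : Subgroup A}
    (hHE : H ≤ normalizer (E : Set A)) (hfpf : ∀ h ∈ H, h ≠ 1 → E ⊓ centralizer {h} = ⊥)
    (hs : Group.IsSolvable E) {x : X} {f h₁ h₂ : A} (hf : f ∈ E) (m1 : h₁ ∈ H) (n1 : h₁ ≠ 1)
    (m2 : h₂ ∈ H) (n2 : h₂ ≠ 1) (e1 : h₁ • x = x) (e2 : h₂ • f • x = f • x) : f • x = x := by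
  let T : Subgroup A :=
    { carrier := {h | h ∈ H ∧ ∃ e ∈ E, h • x = e • x}
      one_mem' := ⟨H.one_mem, 1, E.one_mem, rfl⟩
      mul_mem' := by
        rintro a b ⟨ha, e, he, h1⟩ ⟨hb, e', he', h2⟩
        refine ⟨H.mul_mem ha hb, a * e' * a⁻¹ * e,
          E.mul_mem (conj_mem_of_le_normalizer hHE ha he') he, ?_⟩
        rw [mul_smul, h2, mul_smul (a * e' * a⁻¹), ← h1, ← mul_smul, ← mul_smul]
        simp
      inv_mem' := by
        rintro a ⟨ha, e, he, h1⟩
        refine ⟨H.inv_mem ha, a⁻¹ * e⁻¹ * a, conj_mem_of_le_normalizer' hHE ha (E.inv_mem he), ?_⟩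
        rw [mul_smul, h1, mul_smul, inv_smul_smul] }
  have hTH : T ≤ H := fun a ha => ha.1
  obtain ⟨k, hk, hfix⟩ := exists_fixed_in_orbit (K := E) (A := T) (hTH.trans hHE)
    ((Frob.coprime_card_of_fpf hHE hfpf).coprime_dvd_left (card_dvd_of_le hTH)) (Or.inr hs) x
    (fun a ha => ha.2)
  have t1 : h₁ ∈ T := ⟨m1, 1, E.one_mem, by rw [e1, one_smul]⟩
  have t2 : h₂ ∈ T := ⟨m2, h₂ * f⁻¹ * h₂⁻¹ * f,
    E.mul_mem (conj_mem_of_le_normalizer hHE m2 (E.inv_mem hf)) hf, by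
      rw [mul_smul (h₂ * f⁻¹ * h₂⁻¹), ← e2, ← mul_smul, ← mul_smul]
      simp⟩
  have k1 : k • x = x := smul_eq_of_fixed (hHE m1) (hfpf _ m1 n1) hk e1 (hfix _ t1)
  have k2 : h₂ • x = x := by simpa only [k1] using hfix _ t2
  exact smul_eq_of_fixed (hHE m2) (hfpf _ m2 n2) hf k2 e2

theorem isCoatom_of_index_prime' {Z : Type u} [Group Z] {B : Subgroup Z} (h : B.index.Prime) :
    IsCoatom B := by
  refine ⟨fun e => h.ne_one (index_eq_one.2 e), fun L hL => ?_⟩
  exact eq_of_lt_of_relIndex_prime (by rwa [relIndex_top_right]) hL le_top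

/-- Generation by the fixed points of hyperplanes. -/
theorem eq_top_of_hyperplanes {V : Type u} {Z : Type w} [Group V] [CommGroup Z] [Finite V]
    [Finite Z] [Nontrivial Z] (ρ : Z →* MulAut V) {q : ℕ} (hq : q.Prime) (hexp : ∀ z : Z, z ^ q = 1)
    (hcop : (Nat.card Z).Coprime (Nat.card V)) {W : Subgroup V}
    (h : ∀ B : Subgroup Z, B.index = q → fix ρ B ≤ W) : W = ⊤ := by
  have := finite_sd (φ := ρ)
  have : IsMulCommutative (sdR ρ ⊤) := by unfold sdR; infer_instance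
  rw [eq_top_iff, ← sdL_le_sdL (φ := ρ)]
  refine le_of_forall_hyperplane (A := sdR ρ ⊤) hq ?_ ?_ (autInv_top.sdR_le ⊤)
    (coprime_sd (by rwa [card_top])) fun B hB hi => ?_
  · rintro _ ⟨z, -, rfl⟩
    rw [← map_pow, hexp, map_one]
  · rw [← nontrivial_iff_ne_bot]
    exact (topEquiv.symm.trans (sdREquiv (φ := ρ) ⊤)).injective.nontrivial
  · have e : sdR ρ (B.comap SemidirectProduct.inr) = B :=
      map_comap_eq_self (by rwa [MonoidHom.range_eq_map])
    rw [← e] at hi ⊢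
    rw [sdR, sdR, relIndex_map_map_of_injective _ _ SemidirectProduct.inr_injective,
      relIndex_top_right] at hi
    rintro _ ⟨⟨x, -, rfl⟩, hx⟩
    exact inl_mem_sdL.2 (h _ hi (mem_fix.2 (inl_mem_centralizer_sdR.1 hx)))

section Core

variable {V : Type u} {Z : Type w} [CommGroup V] [CommGroup Z] [Finite V] [Finite Z] [Finite A]
  {ψ : A →* MulAut V} {ζ : A →* MulAut Z} {ρ : Z →* MulAut V}

omit [Finite V] [Finite Z] [Finite A] in
theorem mem_fix_smul (hc : ∀ a z v, ψ a (ρ z v) = ρ (ζ a z) (ψ a v)) {B : Subgroup Z} {w : V}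
    (hw : w ∈ fix ρ B) (a : A) : ψ a w ∈ fix ρ (ζ a • B) := by
  rw [mem_fix] at hw ⊢
  rintro _ ⟨b, hb, rfl⟩
  change ρ (ζ a b) (ψ a w) = ψ a w
  rw [← hc, hw b hb]

omit [Finite V] [Finite Z] [Finite A] in
theorem rho_comm (y z : Z) (v : V) : ρ y (ρ z v) = ρ z (ρ y v) := by
  rw [← MulAut.mul_apply, ← map_mul, mul_comm, map_mul, MulAut.mul_apply]

omit [Finite V] in
/-- A hyperplane in a regular `H`-orbit. -/
theorem fix_of_regular (hc : ∀ a z v, ψ a (ρ z v) = ρ (ζ a z) (ψ a v)) {H : Subgroup A}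
    (hcop : (Nat.card Z).Coprime (Nat.card V)) {c : Z} (hcv : ∀ v ∈ fix ψ H, ρ c v = v)
    {B : Subgroup Z} (hB : IsCoatom B) (hreg : ∀ h ∈ H, h ≠ 1 → ζ h • B ≠ B) {w : V}
    (hw : w ∈ fix ρ B) : ρ c w = w := by
  classical
  have := Fintype.ofFinite H
  have := Fintype.ofFinite B
  let eB : V →* V :=
    { toFun := fun v => ∏ b : B, ρ b v
      map_one' := by simp
      map_mul' := fun v w => by simp [Finset.prod_mul_distrib] }
  have he : ∀ v, eB v = ∏ b : B, ρ b v := fun _ => rfl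
  have hcomm : ∀ z v, ρ z (eB v) = eB (ρ z v) := fun z v => by
    rw [he, he, map_prod]
    exact Finset.prod_congr rfl fun b _ => rho_comm _ _ _
  have h1 : ∀ h : H, h ≠ 1 → ρ c (eB (ψ h w)) = eB (ψ h w) := by
    intro h hh
    have hne := hreg h h.2 (fun e => hh (Subtype.ext e))
    have hB' : IsCoatom (ζ h • B) := (OrderIso.isCoatom_iff (ζ h).mapSubgroup B).2 hB
    let S : Subgroup Z := MulAction.stabilizer (MulAut V) (eB (ψ h w)) |>.comap ρ
    have s1 : B ≤ S := fun b hb => mem_fix.1 (prod_mem_fix ρ B _) b hb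
    have s2 : ζ h • B ≤ S := fun b hb => by
      change ρ b (eB (ψ h w)) = eB (ψ h w)
      rw [hcomm, mem_fix.1 (mem_fix_smul hc hw h) b hb]
    have : S = ⊤ := top_le_iff.1 ((hB'.sup_eq_top_of_ne hB hne).ge.trans (sup_le s2 s1))
    have : c ∈ S := this ▸ mem_top c
    exact this
  have h2 := congrArg eB (hcv _ (prod_mem_fix ψ H w))
  rw [← hcomm, map_prod eB, ← Finset.mul_prod_erase _ _ (Finset.mem_univ (1 : H)), map_mul,
    map_prod, Finset.prod_congr rfl fun h hh => h1 h (Finset.ne_of_mem_erase hh),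
    mul_left_inj] at h2
  have h3 : eB w = w ^ Nat.card B := by
    rw [he, Finset.prod_congr rfl fun (b : B) _ => mem_fix.1 hw b b.2]
    simp
  simp only [OneMemClass.coe_one, map_one, MulAut.one_apply, h3, map_pow] at h2
  exact (powCoprime (hcop.coprime_dvd_left (card_subgroup_dvd_card B)).symm).injective h2

theorem rho_eq_of_mem_fix (hc : ∀ a z v, ψ a (ρ z v) = ρ (ζ a z) (ψ a v)) {E H : Subgroup A}
    (hHE : H ≤ normalizer (E : Set A)) (hfpf : ∀ h ∈ H, h ≠ 1 → E ⊓ centralizer {h} = ⊥)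
    (hs : Group.IsSolvable E) {q : ℕ} (hq : q.Prime) (hexp : ∀ z : Z, z ^ q = 1)
    (hEq : (Nat.card E).Coprime q) (hcop : (Nat.card Z).Coprime (Nat.card V))
    (hE : fix ζ E = ⊥) {c : Z} (hcH : c ∈ fix ζ H) (hcv : ∀ v ∈ fix ψ H, ρ c v = v) (v : V) :
    ρ c v = v := by
  classical
  rcases subsingleton_or_nontrivial Z with hZ | hZ
  · rw [Subsingleton.elim c 1, map_one, MulAut.one_apply]
  let W : Subgroup V := fix ρ (zpowers c)
  have hW : ∀ w, w ∈ W ↔ ρ c w = w := fun w => ⟨fun h => mem_fix.1 h c (mem_zpowers c), fun h =>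
    mem_fix.2 (show zpowers c ≤ (MulAction.stabilizer (MulAut V) w).comap ρ from
      zpowers_le.2 h)⟩
  suffices W = ⊤ from (hW v).1 (this ▸ mem_top v)
  refine eq_top_of_hyperplanes ρ hq hexp hcop fun B hi => ?_
  by_contra hcon
  obtain ⟨w, hw, hwc⟩ := SetLike.not_le_iff_exists.1 hcon
  rw [hW] at hwc
  have hB : IsCoatom B := isCoatom_of_index_prime' (hi ▸ hq)
  have hcB : c ∉ B := fun h => hwc (mem_fix.1 hw c h)
  let _ : MulAction A (Subgroup Z) := MulAction.compHom _ ζ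
  have hsm : ∀ (a : A) (D : Subgroup Z), a • D = ζ a • D := fun _ _ => rfl
  obtain ⟨h₁, m1, n1, e1⟩ : ∃ h ∈ H, h ≠ 1 ∧ ζ h • B = B := by
    by_contra h
    push Not at h
    exact hwc (fix_of_regular hc hcop hcv hB h hw)
  -- the other members of the orbit contain `c`
  have key1 : ∀ f ∈ E, ζ f • B ≠ B → c ∈ ζ f • B := by
    intro f hf hne
    by_contra hc'
    have hB' : IsCoatom (ζ f • B) := (OrderIso.isCoatom_iff (ζ f).mapSubgroup B).2 hB
    have hw' := mem_fix_smul hc hw f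
    have hcw : ρ c (ψ f w) ≠ ψ f w := by
      intro e
      let S : Subgroup Z := MulAction.stabilizer (MulAut V) (ψ f w) |>.comap ρ
      have s1 : ζ f • B ≤ S := fun b hb => mem_fix.1 hw' b hb
      have : S = ⊤ := hB'.2 _ (lt_of_le_of_ne s1 fun e' => hc' (e' ▸ e))
      have h5 : ζ f c ∈ S := this ▸ mem_top _
      have h6 : ρ (ζ f c) (ψ f w) = ψ f w := h5
      rw [← hc] at h6
      exact hwc ((ψ f).injective h6)
    obtain ⟨h₂, m2, n2, e2⟩ : ∃ h ∈ H, h ≠ 1 ∧ ζ h • ζ f • B = ζ f • B := by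
      by_contra h
      push Not at h
      exact hcw (fix_of_regular hc hcop hcv hB' h hw')
    exact hne (smul_eq_of_two_fixed hHE hfpf hs hf m1 n1 m2 n2 e1 e2)
  let π := QuotientGroup.mk' B
  have hπ : ∀ y z : Z, π y = π z ↔ y⁻¹ * z ∈ B := fun y z => QuotientGroup.eq
  have hst : ∀ a : A, ζ a • B = B → ∀ b ∈ B, ζ a b ∈ B := fun a ha b hb =>
    ha ▸ smul_mem_pointwise_smul b (ζ a) B hb
  have key2 : ∀ z, π (ζ h₁ z) = π z := by
    let S : Subgroup Z := (π.comp (ζ h₁).toMonoidHom).eqLocus π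
    have s1 : B ≤ S := fun b hb => by
      change π (ζ h₁ b) = π b
      rw [hπ]
      exact B.mul_mem (B.inv_mem (hst _ e1 b hb)) hb
    have s2 : c ∈ S := by
      change π (ζ h₁ c) = π c
      rw [mem_fix.1 hcH _ m1]
    have : S = ⊤ := hB.2 _ (lt_of_le_of_ne s1 fun e' => hcB (e' ▸ s2))
    intro z
    have : z ∈ S := this ▸ mem_top _
    exact this
  let E₀ : Subgroup A := E ⊓ MulAction.stabilizer A B
  have key3 : ∀ f ∈ E₀, π (ζ f c) = π c := by
    intro f hf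
    have hs' : h₁ ∈ normalizer ((MulAction.stabilizer A B : Subgroup A) : Set A) :=
      le_normalizer e1
    obtain ⟨y, hy, rfl⟩ := Frob.exists_commutator_eq_of_fpf (K := E₀)
      (inf_normalizer_le_normalizer_inf ⟨hHE m1, hs'⟩)
      (Frob.fpf_mono inf_le_left (hfpf _ m1 n1)) hf
    have h7 := hst y hy.2 _ ((hπ _ _).1 (key2 (ζ y⁻¹ c)))
    rw [map_mul, map_mul, map_mul, MulAut.mul_apply, MulAut.mul_apply, MulAut.mul_apply,
      mem_fix.1 hcH _ (H.inv_mem m1), hπ]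
    simpa using h7
  have := Fintype.ofFinite E
  have h8 := congrArg π (prod_eq_one_of_fix hE c)
  rw [map_prod, map_one, Finset.prod_congr rfl
    (g := fun f : E => if f ∈ E₀.subgroupOf E then π c else 1) ?_, Finset.prod_ite,
    Finset.prod_const, Finset.prod_const_one, mul_one] at h8
  · have h9 : (Finset.univ.filter fun f : E => f ∈ E₀.subgroupOf E).card =
        Nat.card (E₀.subgroupOf E) := by
      rw [Nat.card_eq_fintype_card, Fintype.card_subtype]
    rw [h9, ← map_pow] at h8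
    refine hcB (mem_of_pow_mem_of_coprime
      (hEq.coprime_dvd_left (card_subgroup_dvd_card (E₀.subgroupOf E)))
      ((QuotientGroup.eq_one_iff _).1 h8) ?_)
    rw [hexp]; exact B.one_mem
  · intro f _
    split_ifs with hf
    · exact key3 f hf
    · have := key1 (f : A)⁻¹ (E.inv_mem f.2) fun e => hf ⟨f.2, by
        simpa using (MulAction.stabilizer A B).inv_mem (show (f : A)⁻¹ ∈ _ from e)⟩
      rw [mem_pointwise_smul_iff_inv_smul_mem, ← map_inv, inv_inv] at this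
      exact (QuotientGroup.eq_one_iff _).2 this

omit [Finite V] [Finite Z] in
theorem prod_trace {E H : Subgroup A} [Fintype E] [Fintype H]
    (hHE : H ≤ normalizer (E : Set A)) (hfpf : ∀ h ∈ H, h ≠ 1 → E ⊓ centralizer {h} = ⊥)
    (hE : fix ζ E = ⊥) (z : Z) :
    ∏ f : E, ζ f (∏ h : H, ζ h (ζ (f : A)⁻¹ z)) = z ^ Nat.card E := by
  classical
  simp only [map_prod]
  rw [Finset.prod_comm, ← Finset.mul_prod_erase _ _ (Finset.mem_univ (1 : H)),
    Finset.prod_eq_one (s := Finset.univ.erase (1 : H)), mul_one]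
  · simp
  intro h hh
  have hh1 : (h : A) ≠ 1 := fun e => Finset.ne_of_mem_erase hh (Subtype.ext e)
  let β : E → E := fun f => ⟨f * (h * (f : A)⁻¹ * (h : A)⁻¹),
    E.mul_mem f.2 (conj_mem_of_le_normalizer hHE h.2 (E.inv_mem f.2))⟩
  have hβ : Function.Bijective β := by
    refine Finite.surjective_iff_bijective.1 fun k => ?_
    obtain ⟨x, hx, e⟩ := Frob.exists_commutator_eq_of_fpf (hHE h.2) (hfpf _ h.2 hh1) k.2
    exact ⟨⟨x, hx⟩, Subtype.ext (by simp [β, e, mul_assoc])⟩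
  rw [← prod_eq_one_of_fix hE (ζ h z), ← hβ.prod_comp fun f : E => ζ f (ζ h z)]
  refine Finset.prod_congr rfl fun f _ => ?_
  simp [β]

/-- The core lemma. -/
theorem rho_eq (hc : ∀ a z v, ψ a (ρ z v) = ρ (ζ a z) (ψ a v)) {E H : Subgroup A}
    (hHE : H ≤ normalizer (E : Set A)) (hfpf : ∀ h ∈ H, h ≠ 1 → E ⊓ centralizer {h} = ⊥)
    (hs : Group.IsSolvable E) {q : ℕ} (hq : q.Prime) (hexp : ∀ z : Z, z ^ q = 1)
    (hEq : (Nat.card E).Coprime q) (hcop : (Nat.card Z).Coprime (Nat.card V))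
    (hE : fix ζ E = ⊥) (hcv : ∀ c ∈ fix ζ H, ∀ v ∈ fix ψ H, ρ c v = v) (z : Z) (v : V) :
    ρ z v = v := by
  have := Fintype.ofFinite H
  have := Fintype.ofFinite E
  have h1 : ∀ c ∈ fix ζ H, c ∈ ρ.ker := fun c hcH => MulEquiv.ext fun v =>
    rho_eq_of_mem_fix hc hHE hfpf hs hq hexp hEq hcop hE hcH (hcv c hcH) v
  have h2 : ∀ a, ∀ c ∈ ρ.ker, ζ a c ∈ ρ.ker := fun a c hk => MulEquiv.ext fun v => by
    obtain ⟨v, rfl⟩ := (ψ a).surjective v
    rw [← hc, MonoidHom.mem_ker.1 hk]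
    rfl
  have h3 : z ∈ ρ.ker := by
    refine mem_of_pow_mem_of_coprime hEq ?_ (by rw [hexp]; exact one_mem _)
    rw [← prod_trace hHE hfpf hE z]
    exact prod_mem fun f _ => h2 _ _ (h1 _ (prod_mem_fix ζ H _))
  rw [MonoidHom.mem_ker.1 h3]
  rfl

end Core

end CfsgLib.KMS
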