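import Cfsg.Agent.Lib.KMS.Core
import Cfsg.Agent.Lib.Frob.Thompson
import Cfsg.Agent.Lib.FT.OddOrder

/-!
The Khukhro-Makarenko-Shumyatsky nilpotency theorem: if a Frobenius group `F H` acts on `G` with
`C_G(F) = 1` and `C_G(H)` nilpotent then `G` is nilpotent.
-/

set_option autoImplicit false

namespace CfsgLib.KMS

open Subgroup CfsgLib.Coprime CfsgLib.Solv Cfsg
open scoped Pointwise commutatorElement

universe u v

variable {G : Type u} {A : Type v} [Group G] [Group A]

theorem exists_inv_elem [Finite G] {φ : A →* MulAut G} {K : Subgroup G} [K.Normal]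
    (hK : AutInv φ K) (hs : Group.IsSolvable K) (h1 : K ≠ ⊥) :
    ∃ (p : ℕ) (N : Subgroup G), p.Prime ∧ N.Normal ∧ AutInv φ N ∧ N ≤ K ∧ N ≠ ⊥ ∧
      IsMulCommutative N ∧ IsPGroup p N := by
  have := (nontrivial_iff_ne_bot K).2 h1
  obtain ⟨p, V, hp, hc, hV, hcomm, hexp⟩ := Frob.exists_characteristic_elementary (G := K)
  refine ⟨p, V.map K.subtype, hp, inferInstance, autInv_map_char hK V, map_subtype_le _, ?_,
    inferInstance, (Core.isPGroup_of_forall_pow_eq_one hexp).map _⟩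
  rwa [Ne, map_eq_bot_iff_of_injective _ K.subtype_injective]

theorem nilpotent_of_two_quot {M N : Subgroup G} [M.Normal] [N.Normal] (h : M ⊓ N = ⊥)
    (hM : Group.IsNilpotent (G ⧸ M)) (hN : Group.IsNilpotent (G ⧸ N)) : Group.IsNilpotent G := by
  have hf : Function.Injective ((QuotientGroup.mk' M).prod (QuotientGroup.mk' N)) := by
    rw [← MonoidHom.ker_eq_bot_iff, MonoidHom.ker_prod, QuotientGroup.ker_mk',
      QuotientGroup.ker_mk', h]
  exact Group.nilpotent_of_mulEquiv (MonoidHom.ofInjective hf).symm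

theorem pCore_map_ne_bot [Finite G] {K : Subgroup G} (hK : Group.IsNilpotent K) {q : ℕ}
    (hq : q.Prime) (hd : q ∣ Nat.card K) : (pCore q K).map K.subtype ≠ ⊥ := by
  have := Fact.mk hq
  rw [Ne, map_eq_bot_iff_of_injective _ K.subtype_injective]
  intro e
  have := Core.not_dvd_index_pCore_of_isNilpotent (G := K) q
  rw [e, index_bot] at this
  exact this hd

open scoped IsMulCommutative in
/-- The solvable step. -/
theorem nilpotent_of_solvable [Finite G] [Finite A] {φ : A →* MulAut G} {F H : Subgroup A}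
    [F.Normal] (hF : Group.IsNilpotent F) (hfpf : ∀ h ∈ H, h ≠ 1 → F ⊓ centralizer {h} = ⊥)
    (hfix : fix φ F = ⊥) (hn : Group.IsNilpotent (fix φ H)) (hs : Group.IsSolvable G)
    (ih : ∀ (N : Subgroup G) [N.Normal] [IsMulCommutative N] (p : ℕ), p.Prime → AutInv φ N →
      N ≠ ⊥ → IsPGroup p N → Group.IsNilpotent (G ⧸ N)) : Group.IsNilpotent G := by
  rcases subsingleton_or_nontrivial G with hG | hG
  · infer_instance
  obtain ⟨p, V, hp, _, hVi, -, hV1, _, hVp⟩ :=
    exists_inv_elem (φ := φ) (K := ⊤) autInv_top inferInstance top_ne_bot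
  have := Fact.mk hp
  have hQ := ih V p hp hVi hV1 hVp
  by_cases hGp : IsPGroup p (G ⧸ V)
  · have : IsPGroup p G := by
      have h := hGp.to_subgroup ⊤ |>.comap_of_ker_isPGroup (QuotientGroup.mk' V)
        (by rwa [QuotientGroup.ker_mk'])
      rw [comap_top] at h
      exact h.of_equiv topEquiv
    exact this.isNilpotent
  obtain ⟨q, hq, hqp, hqd⟩ : ∃ q : ℕ, q.Prime ∧ q ≠ p ∧ q ∣ Nat.card (G ⧸ V) := by
    by_contra h
    push Not at h
    exact hGp (IsPGroup.of_card (n := (Nat.card (G ⧸ V)).primeFactorsList.length)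
      (Nat.eq_prime_pow_of_unique_prime_dvd Nat.card_pos.ne' fun hd hdvd => by
        by_contra hne
        exact h _ hd hne hdvd))
  have := Fact.mk hq
  have hpq : p.Coprime q := (Nat.coprime_primes hp hq).2 hqp.symm
  let Zb : Subgroup (G ⧸ V) := omegaOne q (center (G ⧸ V))
  have hZc : Zb.Characteristic := Core.omegaOne_characteristic q _
  have hZe := Core.isElementaryAbelian_omegaOne q (center (G ⧸ V))
  have hZcomm : IsMulCommutative Zb := hZe.1
  have hZq : IsPGroup q Zb := Core.isElementaryAbelian_isPGroup hZe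
  have hZ1 : Zb ≠ ⊥ := by
    refine Core.omegaOne_ne_bot_of_dvd_card hq ?_
    have := Core.pCore_characteristic q (G ⧸ V)
    have h1 : pCore q (G ⧸ V) ≠ ⊥ := fun e => by
      have := Core.not_dvd_index_pCore_of_isNilpotent (G := G ⧸ V) q
      rw [e, index_bot] at this
      exact this hqd
    exact (Core.dvd_card_of_isPGroup_of_ne_bot ((Core.isPGroup_pCore q _).to_inf_left)
      (Core.inf_center_ne_bot_of_isNilpotent h1)).trans (card_dvd_of_le inf_le_right)
  have hZi : AutInv (quotAut φ V hVi) Zb := autInv_of_characteristic Zb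
  let ρ₀ : G ⧸ V →* MulAut V := QuotientGroup.lift V MulAut.conjNormal fun x hx =>
    MulEquiv.ext fun v => Subtype.ext (by
      have := congrArg Subtype.val (mul_comm (⟨x, hx⟩ : V) v)
      simp only [coe_mul] at this
      simp [this])
  have hρ₀ : ∀ (g : G) (v : V), ((ρ₀ (g : G ⧸ V) v : V) : G) = g * v * g⁻¹ := fun _ _ => rfl
  obtain ⟨E₁, E₂, -, _, -, h2, h3, h4, hsp⟩ := exists_split F hF hq
  have hEs : Group.IsSolvable E₂ := isSolvable_of_le inferInstance h2
  have key := rho_eq (ψ := subAut φ V hVi) (ζ := subAut (quotAut φ V hVi) Zb hZi)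
    (ρ := ρ₀.comp Zb.subtype) (E := E₂) (H := H) (q := q) ?_ le_normalizer_of_normal
    (fun h hh h1 => Frob.fpf_mono h2 (hfpf h hh h1)) hEs hq
    (fun z => Subtype.ext (hZe.2 z z.2)) h4 ?_
    (fix_eq_bot_of_pgroup hq hZq h3 hsp
      (fix_sub_eq_bot (fix_quot_eq_bot hF hfix hVi hp hVp) hZi)) ?_
  · let Z : Subgroup G := Zb.comap (QuotientGroup.mk' V)
    have hZV : ⁅V, Z⁆ = ⊥ := by
      rw [commutator_eq_bot_iff_le_centralizer]
      intro v hv z hz
      have := congrArg Subtype.val (key ⟨z, hz⟩ ⟨v, hv⟩)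
      exact mul_inv_eq_iff_eq_mul.1 this
    have hZZ : ⁅Z, Z⁆ ≤ V := by
      rw [commutator_le]
      intro x hx y hy
      rw [← QuotientGroup.eq_one_iff]
      change QuotientGroup.mk' V _ = 1
      rw [map_commutatorElement, commutatorElement_eq_one_iff_mul_comm]
      exact congrArg Subtype.val (mul_comm (⟨_, hx⟩ : Zb) ⟨_, hy⟩)
    have hZn : Group.IsNilpotent Z := Core.isNilpotent_of_commutator_commutator_eq_bot
      (le_bot_iff.1 (hZV ▸ commutator_mono hZZ le_rfl))
    have hqZ : q ∣ Nat.card Z := by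
      refine (Core.dvd_card_of_isPGroup_of_ne_bot hZq hZ1).trans ?_
      conv_lhs => rw [← map_comap_eq_self_of_surjective (QuotientGroup.mk'_surjective V) Zb]
      exact card_map_dvd _ _
    have := Core.pCore_characteristic q Z
    obtain ⟨r, N, hr, _, hNi, hNK, hN1, _, hNr⟩ :=
      exists_inv_elem (φ := φ) (K := (pCore q Z).map Z.subtype)
        (autInv_map_char (autInv_comap_quot hZi) _)
        (isSolvable_of_isPGroup (Core.isPGroup_map_pCore Z)) (pCore_map_ne_bot hZn hq hqZ)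
    refine nilpotent_of_two_quot ?_ hQ (ih N r hr hNi hN1 hNr)
    exact disjoint_iff.1 (IsPGroup.disjoint_of_ne p q hqp.symm V N hVp
      ((Core.isPGroup_map_pCore Z).to_le hNK))
  · rintro a ⟨z, hz⟩ v
    obtain ⟨g, rfl⟩ := QuotientGroup.mk_surjective z
    refine Subtype.ext ?_
    change φ a (g * v * g⁻¹) = φ a g * φ a v * (φ a g)⁻¹
    rw [map_mul, map_mul, map_inv]
  · obtain ⟨k, hk⟩ := hZq.exists_card_eq
    rw [hk]
    exact (coprime_card_of_isPGroup hVp hpq.symm).pow_left k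
  · rintro ⟨c, hc⟩ hcH v hv
    obtain ⟨g, hg, rfl⟩ := exists_fix_lift le_normalizer_of_normal hfpf hfix hVi (y := c)
      (mem_fix.2 fun a ha => congrArg Subtype.val (mem_fix.1 hcH a ha))
    have hv' : (v : G) ∈ fix φ H :=
      mem_fix.2 fun a ha => congrArg Subtype.val (mem_fix.1 hv a ha)
    have hgq : g ^ q ∈ V := by
      rw [← QuotientGroup.eq_one_iff, QuotientGroup.mk_pow]
      exact hZe.2 _ hc
    obtain ⟨k, hk⟩ := hVp ⟨_, hgq⟩
    obtain ⟨l, hl⟩ := hVp v
    have hk' : (g ^ p ^ k) ^ q = 1 := by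
      rw [← pow_mul, mul_comm, pow_mul]
      exact congrArg Subtype.val hk
    have c1 : g ^ q ∈ centralizer {(v : G)} :=
      mem_centralizer_singleton_iff.2 (congrArg Subtype.val (mul_comm (⟨_, hgq⟩ : V) v))
    have c2 : g ^ p ^ k ∈ centralizer {(v : G)} := by
      have := Core.commute_of_coprime_orderOf_of_isNilpotent (G := fix φ H)
        (x := ⟨g ^ p ^ k, pow_mem hg _⟩) (y := ⟨v, hv'⟩) (by
          refine Nat.Coprime.coprime_dvd_left (orderOf_dvd_of_pow_eq_one (n := q)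
            (Subtype.ext hk')) (Nat.Coprime.coprime_dvd_right
              (orderOf_dvd_of_pow_eq_one (n := p ^ l) (Subtype.ext ?_)) (hpq.symm.pow_right l))
          exact congrArg (fun z : V => (z : G)) hl)
      exact mem_centralizer_singleton_iff.2 (congrArg Subtype.val this.eq)
    have c3 := mem_centralizer_singleton_iff.1
      (mem_of_pow_mem_of_coprime (hpq.symm.pow_right k) c1 c2)
    refine Subtype.ext ?_
    change g * v * g⁻¹ = v
    rw [c3, mul_inv_cancel_right]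

theorem exists_odd_prime_dvd {n : ℕ} (h1 : n ≠ 1) (h2 : ¬ 2 ∣ n) :
    ∃ p : ℕ, p.Prime ∧ p ≠ 2 ∧ p ∣ n := by
  obtain ⟨p, hp, hd⟩ := Nat.exists_prime_and_dvd h1
  exact ⟨p, hp, fun e => h2 (e ▸ hd), hd⟩

/-- A nontrivial invariant `p`-subgroup for an odd prime `p`. -/
theorem exists_inv_pgroup [Finite G] [Finite A] {φ : A →* MulAut G} {F : Subgroup A}
    [F.Normal] (hF : Group.IsNilpotent F) (hfix : fix φ F = ⊥) (hs : ¬ Group.IsSolvable G)
    (hsub : ∀ K : Subgroup G, K ≠ ⊤ → AutInv φ K → Group.IsNilpotent K) :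
    ∃ (p : ℕ) (P : Subgroup G), p.Prime ∧ p ≠ 2 ∧ P ≠ ⊥ ∧ IsPGroup p P ∧ AutInv φ P := by
  have hK : ∀ K : Subgroup G, K ≠ ⊤ → AutInv φ K → ∀ p : ℕ, p.Prime → p ≠ 2 → p ∣ Nat.card K →
      ∃ (p : ℕ) (P : Subgroup G), p.Prime ∧ p ≠ 2 ∧ P ≠ ⊥ ∧ IsPGroup p P ∧ AutInv φ P := by
    intro K h1 h2 p hp hp2 hd
    have := Core.pCore_characteristic p K
    exact ⟨p, _, hp, hp2, pCore_map_ne_bot (hsub K h1 h2) hp hd, Core.isPGroup_map_pCore K,
      autInv_map_char h2 _⟩
  obtain ⟨E, ⟨hEn, hEF, hE⟩, hmin⟩ := (wellFounded_lt (α := Subgroup A)).has_min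
    {E | E.Normal ∧ E ≤ F ∧ fix φ E = ⊥} ⟨F, inferInstance, le_rfl, hfix⟩
  have hEnil : Group.IsNilpotent E :=
    Group.nilpotent_of_mulEquiv (subgroupOfEquivOfLe hEF)
  have hsplit : ∀ r : ℕ, r.Prime → r ∣ Nat.card E → ∃ E₁ E₂ : Subgroup A, E₁.Normal ∧ E₂.Normal ∧
      IsPGroup r E₁ ∧ fix φ E₂ ≠ ⊥ ∧ ¬ r ∣ Nat.card (fix φ E₂) ∧ fix φ E₁ ≠ ⊤ := by
    intro r hr hd
    obtain ⟨E₁, E₂, n1, n2, -, h2, h3, h4, hsp⟩ := exists_split E hEnil hr
    have hne : fix φ E₂ ≠ ⊥ := fun e => hmin E₂ ⟨n2, h2.trans hEF, e⟩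
      (lt_of_le_of_ne h2 fun e' => hr.ne_one (Nat.eq_one_of_dvd_coprimes h4 (e' ▸ hd) dvd_rfl))
    refine ⟨E₁, E₂, n1, n2, h3, hne, not_dvd_card_fix hr h3 hsp hE, fun e => hne ?_⟩
    rw [fix_eq_bot_iff] at hE ⊢
    intro g hg
    refine hE g fun a ha => ?_
    obtain ⟨x, hx, y, hy, rfl⟩ := hsp a ha
    rw [map_mul, MulAut.mul_apply, hg y hy]
    exact mem_fix.1 (e ▸ mem_top g) x hx
  by_cases h2 : 2 ∣ Nat.card E
  · obtain ⟨E₁, E₂, -, _, -, h3, h4, -⟩ := hsplit 2 Nat.prime_two h2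
    obtain ⟨p, hp, hp2, hd⟩ := exists_odd_prime_dvd (fun e => h3 (card_eq_one.1 e)) h4
    refine hK _ (fun e => hs (FT.odd_order_solvable ?_)) (autInv_fix φ E₂) p hp hp2 hd
    rw [e, card_top] at h4
    exact Nat.odd_iff.2 (Nat.two_dvd_ne_zero.1 h4)
  by_cases hc : (Nat.card E).Coprime (Nat.card G)
  · obtain ⟨p, hp, hp2, hd⟩ : ∃ p : ℕ, p.Prime ∧ p ≠ 2 ∧ p ∣ Nat.card G := by
      by_contra h
      push Not at h
      exact hs (isSolvable_of_isPGroup (p := 2)
        (IsPGroup.of_card (n := (Nat.card G).primeFactorsList.length)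
          (Nat.eq_prime_pow_of_unique_prime_dvd Nat.card_pos.ne' fun hd hdvd => by
            by_contra hne
            exact h _ hd hne hdvd)))
    have := Fact.mk hp
    have hEs : Group.IsSolvable E := inferInstance
    obtain ⟨P, hP⟩ := aut_exists_invariant_sylow (φ := φ.comp E.subtype) p hc (Or.inl hEs)
    refine ⟨p, P, hp, hp2, P.ne_bot_of_dvd_card hd, P.isPGroup', fun a x hx => ?_⟩
    let Q : Sylow p G := P.mapSurjective (f := (φ a : G →* G)) (φ a).surjective
    have hQ : AutInv (φ.comp E.subtype) Q := by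
      rintro e _ ⟨y, hy, rfl⟩
      refine ⟨_, hP ⟨a⁻¹ * e * a, by simpa using hEn.conj_mem _ e.2 a⁻¹⟩ y hy, ?_⟩
      simp
    obtain ⟨c, hc1, hc2⟩ := aut_exists_autFix_smul_sylow_eq hc (Or.inl hEs) P Q hP hQ
    have : c ∈ fix φ E := hc1
    rw [hE, mem_bot] at this
    rw [this, one_smul] at hc2
    rw [hc2]
    exact ⟨x, hx, rfl⟩
  · obtain ⟨r, hr, hd1, hd2⟩ := Nat.Prime.not_coprime_iff_dvd.1 hc
    have := Fact.mk hr
    obtain ⟨E₁, E₂, _, -, h3, -, -, h4⟩ := hsplit r hr hd1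
    exact hK _ h4 (autInv_fix φ E₁) r hr (fun e => h2 (e ▸ hd1))
      (((card_modEq_fix φ h3).dvd_iff dvd_rfl).1 hd2)

theorem false_of_inv_pgroup [Finite G] {φ : A →* MulAut G} (hs : ¬ Group.IsSolvable G)
    (hsub : ∀ K : Subgroup G, K ≠ ⊤ → AutInv φ K → Group.IsNilpotent K)
    (hN : ∀ N : Subgroup G, N.Normal → AutInv φ N → N ≠ ⊥ → N = ⊤) {p : ℕ} (hp : p.Prime)
    (hp2 : p ≠ 2) {P₀ : Subgroup G} (h1 : P₀ ≠ ⊥) (h2 : IsPGroup p P₀) (h3 : AutInv φ P₀) :
    False := by
  have := Fact.mk hp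
  have hG : ¬ IsPGroup p G := fun h => hs (isSolvable_of_isPGroup h)
  have hnorm : ∀ C : Subgroup G, C ≠ ⊥ → IsPGroup p C → AutInv φ C →
      Group.IsNilpotent (normalizer (C : Set G)) := by
    intro C c1 c2 c3
    refine hsub _ (fun e => hG ?_) (autInv_normalizer c3)
    rw [hN C (normalizer_eq_top_iff.1 e) c3 c1] at c2
    exact c2.of_equiv topEquiv
  obtain ⟨P, ⟨p1, p2, p3⟩, hmax⟩ := (wellFounded_gt (α := Subgroup G)).has_min
    {P | P ≠ ⊥ ∧ IsPGroup p P ∧ AutInv φ P} ⟨P₀, h1, h2, h3⟩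
  have hn := hnorm P p1 p2 p3
  have hle : P ≤ (pCore p (normalizer (P : Set G))).map (normalizer (P : Set G)).subtype :=
    Core.le_map_pCore le_normalizer le_rfl p2
  have := Core.pCore_characteristic p (normalizer (P : Set G))
  have heq : P = (pCore p (normalizer (P : Set G))).map (normalizer (P : Set G)).subtype := by
    by_contra hne
    exact hmax _ ⟨fun e => p1 (le_bot_iff.1 (e ▸ hle)), Core.isPGroup_map_pCore _,
      autInv_map_char (autInv_normalizer p3) _⟩ (lt_of_le_of_ne hle hne)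
  have hidx : ¬ p ∣ P.index := by
    rw [← relIndex_top_right]
    refine not_dvd_relIndex_of_normalizer le_top p2 ?_
    rw [top_inf_eq]
    nth_rewrite 1 [heq]
    rw [relIndex_map_subtype]
    exact Core.not_dvd_index_pCore_of_isNilpotent p
  have h4 := Frob.weakThompson G p hp2 (p2.toSylow hidx) p1 fun C hCP hC hinv => by
    have := hnorm C hC (p2.to_le hCP)
      (autInv_iff_map_eq.2 fun a => hinv (φ a) (p3.map_eq a))
    exact Transfer.hasNormalPComplement_of_isNilpotent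
  have := Transfer.pResidual_characteristic p G
  have h5 := hN (pResidual p G) inferInstance (autInv_of_characteristic _) fun e => hG
    ((Transfer.isPGroup_quotient_pResidual (p := p) (G := G)).of_equiv
      ((QuotientGroup.quotientMulEquivOfEq e).trans QuotientGroup.quotientBot))
  rw [Transfer.hasNormalPComplement_iff_not_dvd, h5, card_top] at h4
  exact h4 ((Core.dvd_card_of_isPGroup_of_ne_bot p2 p1).trans (card_subgroup_dvd_card P))

theorem kms_aux [Finite A] {F H : Subgroup A} [F.Normal] (hF : Group.IsNilpotent F)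
    (hfpf : ∀ h ∈ H, h ≠ 1 → F ⊓ centralizer {h} = ⊥) (n : ℕ) :
    ∀ (G : Type u) [Group G] [Finite G] (φ : A →* MulAut G), Nat.card G = n → fix φ F = ⊥ →
      Group.IsNilpotent (fix φ H) → Group.IsNilpotent G := by
  induction n using Nat.strong_induction_on with
  | _ n ih =>
    intro G _ _ φ hn hfix hnil
    have hsub : ∀ K : Subgroup G, K ≠ ⊤ → AutInv φ K → Group.IsNilpotent K := by
      intro K h1 h2
      refine ih _ ?_ K (subAut φ K h2) rfl (fix_sub_eq_bot hfix h2) (nilpotent_fix_sub hnil h2)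
      rw [← hn, ← K.card_mul_index]
      exact lt_mul_of_one_lt_right Nat.card_pos
        (Nat.one_lt_iff_ne_zero_and_ne_one.2 ⟨index_ne_zero_of_finite, mt index_eq_one.1 h1⟩)
    have hquot : ∀ (N : Subgroup G) [N.Normal] [IsMulCommutative N] (p : ℕ), p.Prime →
        AutInv φ N → N ≠ ⊥ → IsPGroup p N → Group.IsNilpotent (G ⧸ N) := by
      intro N _ _ p hp h1 h2 h3
      refine ih _ ?_ (G ⧸ N) (quotAut φ N h1) rfl (fix_quot_eq_bot hF hfix h1 hp h3)
        (nilpotent_fix_quot le_normalizer_of_normal hfpf hfix h1 hnil)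
      rw [← hn, ← N.index_mul_card]
      exact lt_mul_of_one_lt_right (Nat.pos_of_ne_zero index_ne_zero_of_finite)
        (N.one_lt_card_iff_ne_bot.2 h2)
    by_cases hs : Group.IsSolvable G
    · exact nilpotent_of_solvable hF hfpf hfix hnil hs hquot
    exfalso
    obtain ⟨p, P, hp, hp2, h1, h2, h3⟩ := exists_inv_pgroup hF hfix hs hsub
    refine false_of_inv_pgroup hs hsub (fun K _ hK hK1 => ?_) hp hp2 h1 h2 h3
    by_contra hne
    have := hsub K hne hK
    obtain ⟨r, N, hr, _, hNi, -, hN1, _, hNr⟩ := exists_inv_elem hK inferInstance hK1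
    have := hquot N r hr hNi hN1 hNr
    have := isSolvable_of_isMulCommutative N
    exact hs (Group.isSolvable_of_ker_le_range N.subtype (QuotientGroup.mk' N) (by simp))

/-- **Khukhro-Makarenko-Shumyatsky**. -/
theorem kms_nilpotent [Finite G] [Finite A] {F H : Subgroup A} [F.Normal]
    (hF : Group.IsNilpotent F) (hfpf : ∀ h ∈ H, h ≠ 1 → F ⊓ centralizer {h} = ⊥)
    (φ : A →* MulAut G) (hfix : fix φ F = ⊥) (hn : Group.IsNilpotent (fix φ H)) :
    Group.IsNilpotent G :=
  kms_aux hF hfpf _ G φ rfl hfix hn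

end CfsgLib.KMS
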